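import Cfsg.Agent.H981.Inv.HNTri3
import Cfsg.Agent.H981.Inv.HNTri1
import Cfsg.Agent.H981.Inv.HNTri2
import Cfsg.Agent.H981.Inv.Tools
import Cfsg.Agent.H256.SporC
import Cfsg.Agent.CpAut.TwoTool
import Cfsg.Agent.Lib.PackCol
import Mathlib
import Cfsg.Agent.H109.NrOrb_m3
import Cfsg.Agent.FastGrp
import Cfsg.Agent.Prune
set_option linter.all false

section
prune_inst 0x7f00000000000000000000000000000000000000000000000000000000000000000000000000000000000000000000000000000000000000000000000000000000000000000000000000000000000000003fffffffffffffffffffffffffffbeffbdffffffff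

-- part: H981/Inv/HN
section
set_option linter.all false
open scoped Cfsg.Agent.FastGrp

-- part: H981/Inv/HNTri4
section
/-!
# Triangles in the Harada-Norton group: kernel checks, part 4 (helper981, for S3830)
-/

set_option autoImplicit false
set_option maxRecDepth 100000

namespace Cfsg.Agent.H981.InvHN.T4

open Cfsg.Agent.HN Cfsg.Agent.H981.InvHN Cfsg.Agent.Lib.PackMatMul Cfsg.Agent.HN.RepData
open Cfsg.Agent.H839.Rad.HN (evF W A B C₁ D F)

/-- the program -/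
def pr : List (ℕ × List ℕ) := [
  (6, [7]),
  (10, [7, 9, 14, 11, 10, 8]),
  (0, [0, 0, 0, 0, 0, 0, 0, 0, 0, 0]),
  (12, [9, 11, 16, 13, 12, 10, 13]),
  (0, [0, 0, 0, 0, 0, 0, 0, 0, 0, 0, 0, 0, 0, 0, 0, 0, 0, 0]),
  (13, [15, 17, 14, 17, 15]),
  (0, [0, 0, 0, 0, 0, 0]),
  (15, [17, 19, 16, 19, 17, 17]),
  (0, [0, 0, 0, 0])]

/-- the equalities -/
def es : List (ℕ × ℕ) := [(6, 8), (4, 8), (2, 8), (0, 8)]

/-- the inequalities -/
def ns : List (ℕ × ℕ) := []

set_option Elab.async false in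
theorem chk : checkS C pr es ns L2 = true := by (rewrite [show @Cfsg.Agent.Lib.PackMatMul.checkS = delta% @Cfsg.Agent.Lib.PackMatMul.checkS from by delta Cfsg.Agent.Lib.PackMatMul.checkS; rfl, Cfsg.Agent.Lib.PackCol.withM_col]; decide +kernel)

theorem snd : (∀ q ∈ es, S pr q.1 = S pr q.2) ∧ (∀ q ∈ ns, S pr q.1 ≠ S pr q.2) := soundS chk (by decide)

theorem g (m : ℕ) : S pr (9 + m) = gens2.getD m 1 := genS pr m

theorem gx : S pr 15 = Rep.x := g 6
theorem gxi : S pr 16 = Rep.x⁻¹ := g 7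
theorem gy : S pr 17 = Rep.y := g 8
theorem gyi : S pr 18 = Rep.y⁻¹ := g 9
theorem gz : S pr 19 = Rep.z := g 10
theorem gt : S pr 21 = Rep.t := g 12
theorem gti : S pr 22 = Rep.t⁻¹ := g 13
theorem v_one : S pr 8 = Rep.x * Rep.x⁻¹ := by
  have h := stepS (p := pr) (i := 8) (w := [6, 7]) (by decide) (by rfl)
  simp only [evF, mul_one] at h
  rw [h]
  show S pr 15 * (S pr 16) = _
  rw [gx, gxi]
theorem one_eq : S pr 8 = 1 := by rw [v_one, mul_inv_cancel]
theorem v_u_g11 : S pr 7 = Rep.y⁻¹ * (Rep.x * (Rep.y * (Rep.t⁻¹ * (Rep.z * (Rep.y⁻¹ * Rep.x⁻¹))))) := by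
  have h := stepS (p := pr) (i := 7) (w := [10, 7, 9, 14, 11, 10, 8]) (by decide) (by rfl)
  simp only [evF, mul_one] at h
  rw [h]
  show S pr 18 * (S pr 15 * (S pr 17 * (S pr 22 * (S pr 19 * (S pr 18 * (S pr 16)))))) = _
  rw [gyi, gx, gy, gti, gz, gxi]
theorem r_g11 : (Rep.y⁻¹ * (Rep.x * (Rep.y * (Rep.t⁻¹ * (Rep.z * (Rep.y⁻¹ * Rep.x⁻¹)))))) ^ 11 = 1 := by
  have h1 := stepS (p := pr) (i := 6) (w := List.replicate 11 0) (by decide) (by rfl)
  rw [evF_replicate] at h1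
  have h2 : S pr 6 = S pr 8 := snd.1 (6, 8) (by decide)
  rw [h1, one_eq] at h2
  rw [← v_u_g11]
  exact h2
theorem v_u_h11 : S pr 5 = Rep.y⁻¹ * (Rep.x * (Rep.y * (Rep.t⁻¹ * (Rep.z * (Rep.y⁻¹ * (Rep.x⁻¹ * Rep.z)))))) := by
  have h := stepS (p := pr) (i := 5) (w := [12, 9, 11, 16, 13, 12, 10, 13]) (by decide) (by rfl)
  simp only [evF, mul_one] at h
  rw [h]
  show S pr 18 * (S pr 15 * (S pr 17 * (S pr 22 * (S pr 19 * (S pr 18 * (S pr 16 * (S pr 19))))))) = _
  rw [gyi, gx, gy, gti, gz, gxi]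
theorem r_h11 : (Rep.y⁻¹ * (Rep.x * (Rep.y * (Rep.t⁻¹ * (Rep.z * (Rep.y⁻¹ * (Rep.x⁻¹ * Rep.z))))))) ^ 19 = 1 := by
  have h1 := stepS (p := pr) (i := 4) (w := List.replicate 19 0) (by decide) (by rfl)
  rw [evF_replicate] at h1
  have h2 : S pr 4 = S pr 8 := snd.1 (4, 8) (by decide)
  rw [h1, one_eq] at h2
  rw [← v_u_h11]
  exact h2
theorem v_u_g7 : S pr 3 = Rep.y * (Rep.z * (Rep.t * (Rep.y⁻¹ * (Rep.t * Rep.z)))) := by
  have h := stepS (p := pr) (i := 3) (w := [13, 15, 17, 14, 17, 15]) (by decide) (by rfl)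
  simp only [evF, mul_one] at h
  rw [h]
  show S pr 17 * (S pr 19 * (S pr 21 * (S pr 18 * (S pr 21 * (S pr 19))))) = _
  rw [gy, gz, gt, gyi]
theorem r_g7 : (Rep.y * (Rep.z * (Rep.t * (Rep.y⁻¹ * (Rep.t * Rep.z))))) ^ 7 = 1 := by
  have h1 := stepS (p := pr) (i := 2) (w := List.replicate 7 0) (by decide) (by rfl)
  rw [evF_replicate] at h1
  have h2 : S pr 2 = S pr 8 := snd.1 (2, 8) (by decide)
  rw [h1, one_eq] at h2
  rw [← v_u_g7]
  exact h2
theorem v_u_h7 : S pr 1 = Rep.y * (Rep.z * (Rep.t * (Rep.y⁻¹ * (Rep.t * (Rep.z * Rep.z))))) := by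
  have h := stepS (p := pr) (i := 1) (w := [15, 17, 19, 16, 19, 17, 17]) (by decide) (by rfl)
  simp only [evF, mul_one] at h
  rw [h]
  show S pr 17 * (S pr 19 * (S pr 21 * (S pr 18 * (S pr 21 * (S pr 19 * (S pr 19)))))) = _
  rw [gy, gz, gt, gyi]
theorem r_h7 : (Rep.y * (Rep.z * (Rep.t * (Rep.y⁻¹ * (Rep.t * (Rep.z * Rep.z)))))) ^ 5 = 1 := by
  have h1 := stepS (p := pr) (i := 0) (w := List.replicate 5 0) (by decide) (by rfl)
  rw [evF_replicate] at h1
  have h2 : S pr 0 = S pr 8 := snd.1 (0, 8) (by decide)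
  rw [h1, one_eq] at h2
  rw [← v_u_h7]
  exact h2

end Cfsg.Agent.H981.InvHN.T4
end

-- part: H981/Inv/HN
section
/-!
# Involutions and elements of prime order `p ≥ 5` in the Harada-Norton group (helper981, for S3830)

Order 5: `P = Q⟨F⟩`, `Q = 5 ^ (1 + 4)`. The elements of `Q` outside of the centre `⟨W⟩` are conjugate (under `Q`, `F`, `τ`, `k` and up
to powers) to `A`, `D`, `C₁`, `B D²`, `A D²`, the elements of order 5 of `Q F` to `W ^ m F`.
-/

set_option autoImplicit false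
set_option maxRecDepth 100000

namespace Cfsg.Agent.H981.InvHN

open Subgroup Cfsg Cfsg.Agent.H839.Rad.Ext Cfsg.Agent.H459.Inv Cfsg.Agent.H981.InvT Cfsg.Agent.HN
open Cfsg.Agent.H839.Rad.HN (W A B C₁ D F τ k ext e_fa1 e_fb1 e_fa2 e_fb2 FW e_taua1 e_taub1 e_taua2 e_taub2 e_tauw
  e_ka1 e_kb1 e_ka2 e_kb2 e_kw F_Q A_eq F_eq e_b25 W_ne center_HN e_w5)

/-! ### codes of vectors -/

/-- digits -/
def d0 (v : ℕ) : ℕ := Nat.mod v 5
/-- digits -/
def d1 (v : ℕ) : ℕ := Nat.mod (Nat.div v 5) 5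
/-- digits -/
def d2 (v : ℕ) : ℕ := Nat.mod (Nat.div v 25) 5
/-- digits -/
def d3 (v : ℕ) : ℕ := Nat.mod (Nat.div v 125) 5
/-- code -/
def en (a b c d : ℕ) : ℕ := a % 5 + 5 * (b % 5) + 25 * (c % 5) + 125 * (d % 5)

/-- the action of `F`, `τ`, `k` and of the square on `Q / Z(Q)` -/
def mv1 (g v : ℕ) : ℕ :=
  match g with
  | 0 => en (4 * d2 v + 4 * d3 v) (d1 v + d2 v) (4 * d0 v + 4 * d2 v + 4 * d3 v) (4 * d0 v + 4 * d1 v + 4 * d2 v + 4 * d3 v)
  | 1 => en (4 * d0 v) (4 * d1 v + 4 * d2 v) (d2 v) (d0 v + d3 v)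
  | 2 => en (2 * d2 v) (3 * d0 v + 4 * d2 v + 3 * d3 v) (2 * d0 v) (4 * d0 v + 3 * d1 v + 3 * d2 v)
  | _ => en (2 * d0 v) (2 * d1 v) (2 * d2 v) (2 * d3 v)

/-- conjugation of the coset of `F` with the inverses of `A`, `B`, `C₁`, `D` -/
def mv2 (g v : ℕ) : ℕ :=
  match g with
  | 0 => en (d0 v + 4) (d1 v) (d2 v + 4) (d3 v + 4)
  | 1 => en (d0 v) (d1 v) (d2 v) (d3 v + 4)
  | 2 => en (d0 v + 4) (d1 v + 1) (d2 v + 3) (d3 v + 4)
  | _ => en (d0 v + 4) (d1 v) (d2 v + 4) (d3 v + 3)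

/-- rank table -/
def R1 : ℕ := 0x6684343667464444436446364556755256644647443454458653252655633566485665465324343163732356675735366332445767653437643656655521253543544425757445552733535535375552278345354645555556465325326583652342545265367676574353446857457487336254846775754635314251376673544556656555785755734372866413435224347743334534647515656745553534545665546574345633444546446333641637652854661460624034475255347482431444334444656845552575661443312674243453655467745675666853577256344646654464877553464476662773144472753351145054645745543485664623565227656664557863324654557561565553357453476564677366327351475556646447446445605226334842372317243221300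
/-- move table -/
def G1 : ℕ := 0x400001000400002198060101a2406040946204100000010568002606810521414a844460140108002000040010100041440400010880000249040401144c01020004a1444440001000110000005001600004408689106a991822028102000000144050100824029980510004000004000280400810204020789420701800020400406110480141046c04846401804200414100205809182606249d0
/-- rank table -/
def R2 : ℕ := 0x4334543466447674877843234433454346644767487784323443345434664476748778432344334543466447674877843234433454346644767487784323453235633657376688767432235323563365737668876743223532356336573766887674322353235633657376688767432235323563365737668876743223452255626567765787664421245225562656776578766442124522556265677657876644212452255626567765787664421245225562656776578766442124451545665567656886543411445154566556765688654341144515456655676568865434114451545665567656886543411445154566556765688654341143455445654577558785433404345544565457755878543340434554456545775587854334043455445654577558785433404345544565457755878543340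
/-- move table -/
def G2 : ℕ := 0x16244498143505891126050d416244498143505891126050d41624449814354911260509c152444981427054911260509c152444981427054911260509c1644581426044d911605098113644581426044d911605098113644581426044d16250581123445894160448d116250581123445894160448d1162505811234494162444901425058911240509416244490142505891124050941624449014

/-- lookup -/
def lk (T b v : ℕ) : ℕ := Nat.mod (Nat.shiftRight T (Nat.mul b v)) (Nat.pow 2 b)

/-- one vector is good -/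
def okv (mv : ℕ → ℕ → ℕ) (R G : ℕ) (reps : List ℕ) (z : Bool) (v : ℕ) : Bool :=
  (z && Nat.beq v 0) || reps.any (Nat.beq v) ||
    (Nat.blt (lk R 4 (mv (lk G 2 v) v)) (lk R 4 v) && Nat.blt (mv (lk G 2 v) v) 625 && (!z || !Nat.beq (mv (lk G 2 v) v) 0))

theorem chk1 : (List.range 625).all (okv mv1 R1 G1 [1, 125, 25, 255, 251] true) = true := by decide +kernel

theorem chk2 : (List.range 625).all (okv mv2 R2 G2 [0, 25, 50, 75, 100] false) = true := by decide +kernel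

theorem all_of_rank {P : ℕ → Prop} {mv : ℕ → ℕ → ℕ} {R G : ℕ} {reps : List ℕ} {z : Bool}
    (hc : (List.range 625).all (okv mv R G reps z) = true) (hmv : ∀ g v, P (mv g v) → P v)
    (hr : ∀ v ∈ reps, P v) : ∀ n v : ℕ, lk R 4 v < n → v < 625 → (z = true → v ≠ 0) → P v := by
  intro n
  induction n with
  | zero => intro v h; omega
  | succ n ih =>
    intro v hv h6 hz
    have h1 := List.all_eq_true.1 hc v (List.mem_range.2 h6)
    unfold okv at h1
    rw [Bool.or_eq_true, Bool.or_eq_true, Bool.and_eq_true, Bool.and_eq_true, Bool.and_eq_true] at h1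
    rcases h1 with (⟨h2, h3⟩ | h2) | ⟨⟨h2, h3⟩, h4⟩
    · exact absurd (Nat.eq_of_beq_eq_true h3) (hz h2)
    · obtain ⟨a, ha, hb⟩ := List.any_eq_true.1 h2
      rw [Nat.eq_of_beq_eq_true hb]
      exact hr a ha
    · rw [Nat.blt_eq] at h2 h3
      refine hmv (lk G 2 v) v (ih _ (by omega) h3 fun hz1 h0 => ?_)
      rw [h0, hz1] at h4
      simp at h4

/-! ### normal forms -/

/-- the element of `Q` -/
noncomputable def nv (v : ℕ) (m : ℤ) : Spor.HN := nf W A B C₁ D (d0 v) (d1 v) (d2 v) (d3 v) m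

theorem nf_eq {i j u l m i' j' u' l' : ℤ} (h1 : i = i') (h2 : j = j') (h3 : u = u') (h4 : l = l') :
    nf W A B C₁ D i j u l m = nf W A B C₁ D i' j' u' l' m := by rw [h1, h2, h3, h4]

theorem zpow_eq {a : Spor.HN} (ha : a ^ 5 = 1) {i j : ℤ} (h : (5 : ℤ) ∣ i - j) : a ^ i = a ^ j := by
  obtain ⟨t, ht⟩ := h
  have h1 : i = j + 5 * t := by linarith
  have h2 : a ^ (5 * t) = 1 := by
    rw [zpow_mul]
    have : a ^ (5 : ℤ) = a ^ 5 := by exact_mod_cast zpow_natCast a 5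
    rw [this, ha, one_zpow]
  rw [h1, zpow_add, h2, mul_one]

theorem nf_mod {i j u l m i' j' u' l' : ℤ} (h1 : (5 : ℤ) ∣ i - i') (h2 : (5 : ℤ) ∣ j - j') (h3 : (5 : ℤ) ∣ u - u')
    (h4 : (5 : ℤ) ∣ l - l') : nf W A B C₁ D i j u l m = nf W A B C₁ D i' j' u' l' m := by
  unfold nf
  rw [zpow_eq ext.ha h1, zpow_eq ext.hb h2, zpow_eq ext.hc h3, zpow_eq ext.hd h4]

theorem d0e (v : ℕ) : d0 v = v % 5 := rfl
theorem d1e (v : ℕ) : d1 v = v / 5 % 5 := rfl
theorem d2e (v : ℕ) : d2 v = v / 25 % 5 := rfl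
theorem d3e (v : ℕ) : d3 v = v / 125 % 5 := rfl

theorem d0_en (a b c d : ℕ) : d0 (en a b c d) = a % 5 := by rw [d0e, en]; (clear * -; solve | lia | omega)
theorem d1_en (a b c d : ℕ) : d1 (en a b c d) = b % 5 := by rw [d1e, en]; (solve | lia | omega)
theorem d2_en (a b c d : ℕ) : d2 (en a b c d) = c % 5 := by rw [d2e, en]; (solve | lia | omega)
theorem d3_en (a b c d : ℕ) : d3 (en a b c d) = d % 5 := by rw [d3e, en]; (solve | lia | omega)

/-- the code of a normal form -/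
theorem nf_en (a b c d : ℕ) (m : ℤ) : nf W A B C₁ D a b c d m = nv (en a b c d) m := by
  rw [nv, d0_en, d1_en, d2_en, d3_en]
  apply nf_mod <;> (clear * -; omega)

theorem exists_code (i j u l m : ℤ) : ∃ v < 625, nf W A B C₁ D i j u l m = nv v m := by
  refine ⟨en (i % 5).toNat (j % 5).toNat (u % 5).toNat (l % 5).toNat, by unfold en; omega, ?_⟩
  rw [← nf_en]
  apply nf_mod <;> (clear * -; omega)

theorem conj_nf {g : Spor.HN} (hW : g * W = W * g) {a0 a1 a2 a3 a4 b0 b1 b2 b3 b4 c0 c1 c2 c3 c4 e0 e1 e2 e3 e4 : ℤ}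
    (hA : g * A = nf W A B C₁ D a0 a1 a2 a3 a4 * g) (hB : g * B = nf W A B C₁ D b0 b1 b2 b3 b4 * g)
    (hC : g * C₁ = nf W A B C₁ D c0 c1 c2 c3 c4 * g) (hD : g * D = nf W A B C₁ D e0 e1 e2 e3 e4 * g)
    (i j u l : ℕ) (m : ℤ) : ∃ m' : ℤ, g * nf W A B C₁ D i j u l m * g⁻¹ =
      nf W A B C₁ D (i * a0 + j * b0 + u * c0 + l * e0) (i * a1 + j * b1 + u * c1 + l * e1)
        (i * a2 + j * b2 + u * c2 + l * e2) (i * a3 + j * b3 + u * c3 + l * e3) m' := by
  have h0 : g * nf W A B C₁ D i j u l m * g⁻¹ =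
      (g * A * g⁻¹) ^ i * (g * B * g⁻¹) ^ j * (g * C₁ * g⁻¹) ^ u * (g * D * g⁻¹) ^ l * (g * W * g⁻¹) ^ m := by
    unfold nf
    simp only [zpow_natCast, conj_pow, conj_zpow]
    group
  obtain ⟨x1, -, h1⟩ := ext.nf_pow a0 a1 a2 a3 a4 i
  obtain ⟨x2, -, h2⟩ := ext.nf_pow b0 b1 b2 b3 b4 j
  obtain ⟨x3, -, h3⟩ := ext.nf_pow c0 c1 c2 c3 c4 u
  obtain ⟨x4, -, h4⟩ := ext.nf_pow e0 e1 e2 e3 e4 l
  have h5 : W ^ m = nf W A B C₁ D 0 0 0 0 m := by simp [nf]
  rw [h0, hA, hB, hC, hD, hW, mul_inv_cancel_right, mul_inv_cancel_right, mul_inv_cancel_right, mul_inv_cancel_right,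
    mul_inv_cancel_right, h1, h2, h3, h4, h5, ext.nf_mul, ext.nf_mul, ext.nf_mul, ext.nf_mul]
  exact ⟨_, nf_eq (by ring) (by ring) (by ring) (by ring)⟩

/-! ### the predicate -/

/-- `x` is not an element of order 5 or `NS` -/
def B5 (x : Spor.HN) : Prop := x ^ 5 = 1 → NS (MulAut.conj x)

theorem B5.of_pow {x : Spor.HN} (n : ℕ) (h : B5 (x ^ n)) : B5 x := fun hx =>
  ns_pow (h (by rw [← pow_mul, mul_comm, pow_mul, hx, one_pow]))

theorem B5.of_conj {x : Spor.HN} (t : Spor.HN) (h : B5 (t * x * t⁻¹)) : B5 x := fun hx =>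
  ns_conj t (h (by rw [conj_pow, hx, mul_one, mul_inv_cancel]))

/-- conjugation -/
theorem step_conj {g : Spor.HN} (hW : g * W = W * g)
    {a0 a1 a2 a3 b0 b1 b2 b3 c0 c1 c2 c3 e0 e1 e2 e3 : ℕ} {a4 b4 c4 e4 : ℤ}
    (hA : g * A = nf W A B C₁ D a0 a1 a2 a3 a4 * g) (hB : g * B = nf W A B C₁ D b0 b1 b2 b3 b4 * g)
    (hC : g * C₁ = nf W A B C₁ D c0 c1 c2 c3 c4 * g) (hD : g * D = nf W A B C₁ D e0 e1 e2 e3 e4 * g) {v : ℕ}
    (h : ∀ m, B5 (nv (en (d0 v * a0 + d1 v * b0 + d2 v * c0 + d3 v * e0) (d0 v * a1 + d1 v * b1 + d2 v * c1 + d3 v * e1)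
      (d0 v * a2 + d1 v * b2 + d2 v * c2 + d3 v * e2) (d0 v * a3 + d1 v * b3 + d2 v * c3 + d3 v * e3)) m)) :
    ∀ m, B5 (nv v m) := by
  intro m
  apply B5.of_conj g
  obtain ⟨m', hm⟩ := conj_nf hW hA hB hC hD (d0 v) (d1 v) (d2 v) (d3 v) m
  rw [nv, hm]
  have h1 := h m'
  rw [← nf_en] at h1
  push_cast at h1
  exact h1

theorem en_congr {a b c d a' b' c' d' : ℕ} (h1 : a = a') (h2 : b = b') (h3 : c = c') (h4 : d = d') :
    en a b c d = en a' b' c' d' := by rw [h1, h2, h3, h4]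

theorem move1 (g v : ℕ) (h : ∀ m, B5 (nv (mv1 g v) m)) : ∀ m, B5 (nv v m) := by
  rcases g with _ | _ | _ | g
  · refine step_conj FW (by exact_mod_cast e_fa1) (by exact_mod_cast e_fb1) (by exact_mod_cast e_fa2)
      (by exact_mod_cast e_fb2) fun m => ?_
    refine Eq.mp ?_ (h m)
    congr 2
    exact en_congr (by ring) (by ring) (by ring) (by ring)
  · refine step_conj e_tauw (by exact_mod_cast e_taua1) (by exact_mod_cast e_taub1) (by exact_mod_cast e_taua2)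
      (by exact_mod_cast e_taub2) fun m => ?_
    refine Eq.mp ?_ (h m)
    congr 2
    exact en_congr (by ring) (by ring) (by ring) (by ring)
  · refine step_conj e_kw (by exact_mod_cast e_ka1) (by exact_mod_cast e_kb1) (by exact_mod_cast e_ka2)
      (by exact_mod_cast e_kb2) fun m => ?_
    refine Eq.mp ?_ (h m)
    congr 2
    exact en_congr (by ring) (by ring) (by ring) (by ring)
  · intro m
    apply B5.of_pow 2
    obtain ⟨e, -, h1⟩ := ext.nf_pow (d0 v) (d1 v) (d2 v) (d3 v) m 2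
    rw [nv, h1]
    have h2 : mv1 (g + 3) v = en (2 * d0 v) (2 * d1 v) (2 * d2 v) (2 * d3 v) := rfl
    have h3 := h (((2 : ℕ) : ℤ) * m - e * ((d0 v : ℤ) * (d1 v : ℤ) + (d2 v : ℤ) * (d3 v : ℤ)))
    rw [h2, ← nf_en] at h3
    push_cast at h3 ⊢
    exact h3

/-! ### involutions -/

instance two : Fact (Nat.Prime 2) := ⟨Nat.prime_two⟩

theorem hz : orderOf Rep.z = 2 := orderOf_eq_prime T1.r_z (by simpa using T1.r_zn)

theorem hinv (g h : Spor.HN) (e : g * h = 1) : orderOf (g * (Rep.z * h)) = 2 := by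
  have h1 : h = g⁻¹ := (inv_eq_of_mul_eq_one_right e).symm
  rw [h1, ← mul_assoc, ← MulAut.conj_apply, MulEquiv.orderOf_eq]
  exact hz

theorem hyz : orderOf (Rep.y * (Rep.z * Rep.y⁻¹)) = 2 := hinv _ _ (mul_inv_cancel _)
theorem htz : orderOf (Rep.t * (Rep.z * Rep.t⁻¹)) = 2 := hinv _ _ (mul_inv_cancel _)
theorem hxz : orderOf (Rep.x * (Rep.z * Rep.x⁻¹)) = 2 := hinv _ _ (mul_inv_cancel _)
theorem hTz : orderOf (Rep.t⁻¹ * (Rep.z * Rep.t)) = 2 := hinv _ _ (inv_mul_cancel _)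
theorem hYz : orderOf (Rep.y⁻¹ * (Rep.z * Rep.y)) = 2 := hinv _ _ (inv_mul_cancel _)

/-- triangles -/
theorem b5_of {x y : Spor.HN} {n : ℕ} (hy : orderOf y = 2) (h : (x * y) ^ n = 1) (hn : Odd n) (hc : n.Coprime 5) : B5 x :=
  fun hx => ns_word hx (by decide) hy h hn hc

/-! ### `Q` -/

/-- the central part of a normal form can be changed by conjugation -/
theorem rep_all {r0 r1 r2 r3 : ℤ} (s0 s1 s2 s3 : ℤ) (hω : s0 * r1 - r0 * s1 + s2 * r3 - r2 * s3 = 1)
    (h : B5 (nf W A B C₁ D r0 r1 r2 r3 0)) (m : ℤ) : B5 (nf W A B C₁ D r0 r1 r2 r3 m) := by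
  apply B5.of_conj (nf W A B C₁ D (-m * s0) (-m * s1) (-m * s2) (-m * s3) 0)
  rw [ext.nf_mul_comm, mul_assoc (W ^ _), mul_inv_cancel_right]
  have h1 : -m * s0 * r1 - r0 * (-m * s1) + -m * s2 * r3 - r2 * (-m * s3) = -m := by
    linear_combination (-m) * hω
  rw [h1]
  have h2 : W ^ (-m) = nf W A B C₁ D 0 0 0 0 (-m) := by simp [nf]
  rw [h2, ext.nf_mul]
  have h3 : nf W A B C₁ D (0 + r0) (0 + r1) (0 + r2) (0 + r3) (-m + m - r0 * 0 - r2 * 0) =
      nf W A B C₁ D r0 r1 r2 r3 0 := by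
    congr 1 <;> ring
  rw [h3]
  exact h

theorem goodQ : ∀ v < 625, v ≠ 0 → ∀ m, B5 (nv v m) := by
  intro v hv h0
  refine all_of_rank (P := fun v => ∀ m, B5 (nv v m)) chk1 move1 ?_ _ v (Nat.lt_succ_self _) hv (fun _ => h0)
  intro v hv m
  simp only [List.mem_cons, List.not_mem_nil, or_false] at hv
  rcases hv with rfl | rfl | rfl | rfl | rfl
  · refine rep_all (r0 := ((d0 1 : ℕ) : ℤ)) (r1 := ((d1 1 : ℕ) : ℤ)) (r2 := ((d2 1 : ℕ) : ℤ)) (r3 := ((d3 1 : ℕ) : ℤ))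
      0 (-1) 0 0 (by decide) ?_ m
    have h : nf W A B C₁ D ((d0 1 : ℕ) : ℤ) ((d1 1 : ℕ) : ℤ) ((d2 1 : ℕ) : ℤ) ((d3 1 : ℕ) : ℤ) 0 = A := by
      simp [nf, d0e, d1e, d2e, d3e]
    rw [h]
    exact b5_of hyz T1.r_A (by decide) (by norm_num)
  · refine rep_all (r0 := ((d0 125 : ℕ) : ℤ)) (r1 := ((d1 125 : ℕ) : ℤ)) (r2 := ((d2 125 : ℕ) : ℤ))
      (r3 := ((d3 125 : ℕ) : ℤ)) 0 0 1 0 (by decide) ?_ m
    have h : nf W A B C₁ D ((d0 125 : ℕ) : ℤ) ((d1 125 : ℕ) : ℤ) ((d2 125 : ℕ) : ℤ) ((d3 125 : ℕ) : ℤ) 0 = D := by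
      simp [nf, d0e, d1e, d2e, d3e]
    rw [h]
    exact b5_of htz T1.r_D (by decide) (by norm_num)
  · refine rep_all (r0 := ((d0 25 : ℕ) : ℤ)) (r1 := ((d1 25 : ℕ) : ℤ)) (r2 := ((d2 25 : ℕ) : ℤ))
      (r3 := ((d3 25 : ℕ) : ℤ)) 0 0 0 (-1) (by decide) ?_ m
    have h : nf W A B C₁ D ((d0 25 : ℕ) : ℤ) ((d1 25 : ℕ) : ℤ) ((d2 25 : ℕ) : ℤ) ((d3 25 : ℕ) : ℤ) 0 = C₁ := by
      simp [nf, d0e, d1e, d2e, d3e]
    rw [h]
    exact b5_of hTz T2.r_C (by decide) (by norm_num)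
  · refine rep_all (r0 := ((d0 255 : ℕ) : ℤ)) (r1 := ((d1 255 : ℕ) : ℤ)) (r2 := ((d2 255 : ℕ) : ℤ))
      (r3 := ((d3 255 : ℕ) : ℤ)) 1 0 0 0 (by decide) ?_ m
    have h : nf W A B C₁ D ((d0 255 : ℕ) : ℤ) ((d1 255 : ℕ) : ℤ) ((d2 255 : ℕ) : ℤ) ((d3 255 : ℕ) : ℤ) 0 =
        B * (D * D) := by
      simp [nf, d0e, d1e, d2e, d3e, pow_two]
    rw [h]
    exact b5_of hyz (by simpa only [mul_assoc] using T1.r_B) (by decide) (by norm_num)
  · refine rep_all (r0 := ((d0 251 : ℕ) : ℤ)) (r1 := ((d1 251 : ℕ) : ℤ)) (r2 := ((d2 251 : ℕ) : ℤ))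
      (r3 := ((d3 251 : ℕ) : ℤ)) 0 (-1) 0 0 (by decide) ?_ m
    have h : nf W A B C₁ D ((d0 251 : ℕ) : ℤ) ((d1 251 : ℕ) : ℤ) ((d2 251 : ℕ) : ℤ) ((d3 251 : ℕ) : ℤ) 0 =
        A * (D * D) := by
      simp [nf, d0e, d1e, d2e, d3e, pow_two]
    rw [h]
    exact b5_of hxz (by simpa only [mul_assoc] using T1.r_E) (by decide) (by norm_num)

theorem goodW : B5 W := by
  have h1 : W = Cfsg.Agent.H839.Rad.HN.G * A * Cfsg.Agent.H839.Rad.HN.G⁻¹ := by rw [A_eq]; group
  apply B5.of_conj Cfsg.Agent.H839.Rad.HN.G⁻¹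
  rw [inv_inv, ← A_eq]
  exact b5_of hyz T1.r_A (by decide) (by norm_num)

/-! ### the coset of `F` -/

theorem conjF {s r : Spor.HN} (h : F * s = r * F) {q q' : Spor.HN} (hq : s⁻¹ * q * r = q') :
    s⁻¹ * (q * F) * s⁻¹⁻¹ = q' * F := by
  rw [inv_inv, ← hq, mul_assoc, mul_assoc q, h]
  simp only [mul_assoc]

theorem step_F {s : Spor.HN} {a0 a1 a2 a3 a4 s0 s1 s2 s3 : ℤ} (hs : s⁻¹ = nf W A B C₁ D s0 s1 s2 s3 0)
    (h : F * s = nf W A B C₁ D a0 a1 a2 a3 a4 * F) (i j u l m : ℤ) : ∃ m' : ℤ,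
      s⁻¹ * (nf W A B C₁ D i j u l m * F) * s⁻¹⁻¹ = nf W A B C₁ D (s0 + i + a0) (s1 + j + a1) (s2 + u + a2)
        (s3 + l + a3) m' * F :=
  ⟨_, conjF h (by rw [hs, ext.nf_mul, ext.nf_mul])⟩

theorem move2 (g v : ℕ) (h : ∀ m, B5 (nv (mv2 g v) m * F)) : ∀ m, B5 (nv v m * F) := by
  intro m
  have key : ∀ (s : Spor.HN) (a0 a1 a2 a3 a4 s0 s1 s2 s3 : ℤ) (c0 c1 c2 c3 : ℕ),
      s⁻¹ = nf W A B C₁ D s0 s1 s2 s3 0 → F * s = nf W A B C₁ D a0 a1 a2 a3 a4 * F →
      (5 : ℤ) ∣ s0 + a0 - c0 → (5 : ℤ) ∣ s1 + a1 - c1 → (5 : ℤ) ∣ s2 + a2 - c2 → (5 : ℤ) ∣ s3 + a3 - c3 →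
      (∀ m, B5 (nv (en (d0 v + c0) (d1 v + c1) (d2 v + c2) (d3 v + c3)) m * F)) → B5 (nv v m * F) := by
    intro s a0 a1 a2 a3 a4 s0 s1 s2 s3 c0 c1 c2 c3 hs hF h0 h1 h2 h3 hv
    apply B5.of_conj s⁻¹
    obtain ⟨m', hm⟩ := step_F hs hF (d0 v) (d1 v) (d2 v) (d3 v) m
    rw [nv, hm]
    have h4 := hv m'
    rw [← nf_en] at h4
    rw [nf_mod (i' := ((d0 v + c0 : ℕ) : ℤ)) (j' := ((d1 v + c1 : ℕ) : ℤ)) (u' := ((d2 v + c2 : ℕ) : ℤ))
      (l' := ((d3 v + c3 : ℕ) : ℤ)) (by push_cast; omega) (by push_cast; omega) (by push_cast; omega)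
      (by push_cast; omega)]
    exact h4
  rcases g with _ | _ | _ | g
  · exact key A _ _ _ _ _ (-1) 0 0 0 4 0 4 4 (by simp [nf]) e_fa1 (by norm_num) (by norm_num) (by norm_num) (by norm_num)
      h
  · exact key B _ _ _ _ _ 0 (-1) 0 0 0 0 0 4 (by simp [nf]) e_fb1 (by norm_num) (by norm_num) (by norm_num) (by norm_num)
      h
  · exact key C₁ _ _ _ _ _ 0 0 (-1) 0 4 1 3 4 (by simp [nf]) e_fa2 (by norm_num) (by norm_num) (by norm_num)
      (by norm_num) h
  · exact key D _ _ _ _ _ 0 0 0 (-1) 4 0 4 3 (by simp [nf]) e_fb2 (by norm_num) (by norm_num) (by norm_num) (by norm_num)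
      h

theorem F5 : F ^ 5 = 1 := by
  rw [F_eq, conj_pow, e_b25, mul_one, mul_inv_cancel]

/-- the elements of order 25 -/
theorem b5_c {u : ℕ} (h : (C₁ ^ u * F) ^ 5 ≠ 1) (m : ℤ) : B5 (nf W A B C₁ D 0 0 u 0 m * F) := by
  intro h1
  exfalso
  apply h
  have cF : Commute (W ^ m) F := (show Commute W F from FW.symm).zpow_left m
  have cC : Commute (W ^ m) (C₁ ^ u) := ((show Commute W C₁ from ext.wc).zpow_left m).pow_right u
  have h2 : nf W A B C₁ D 0 0 u 0 m * F = C₁ ^ u * F * W ^ m := by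
    simp only [nf, zpow_zero, one_mul, mul_one, zpow_natCast]
    rw [mul_assoc, cF.eq, ← mul_assoc]
  have h3 : Commute (C₁ ^ u * F) (W ^ m) := Commute.mul_left cC.symm cF.symm
  rw [h2, h3.mul_pow] at h1
  have h4 : (W ^ m) ^ 5 = 1 := by
    rw [← zpow_natCast, ← zpow_mul, mul_comm, zpow_mul, zpow_natCast, e_w5, one_zpow]
  rwa [h4, mul_one] at h1

theorem goodF : ∀ v < 625, ∀ m, B5 (nv v m * F) := by
  intro v hv
  refine all_of_rank (P := fun v => ∀ m, B5 (nv v m * F)) chk2 move2 ?_ _ v (Nat.lt_succ_self _) hv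
    (fun h => absurd h (by decide))
  intro v hv m
  simp only [List.mem_cons, List.not_mem_nil, or_false] at hv
  have hc : ∀ u : ℕ, u < 5 → nv (25 * u) m = nf W A B C₁ D 0 0 u 0 m := by
    intro u hu
    rw [nv, d0e, d1e, d2e, d3e]
    apply nf_eq <;> (clear * - hu; solve | lia | omega)
  rcases hv with rfl | rfl | rfl | rfl | rfl
  · have h0 : nv 0 m = W ^ m := by simp [nv, nf, d0e, d1e, d2e, d3e]
    rw [h0]
    have h1 : W ^ m = W ^ (m % 5) := zpow_eq e_w5 (by omega)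
    rw [h1]
    have h2 : m % 5 = 0 ∨ m % 5 = 1 ∨ m % 5 = 2 ∨ m % 5 = 3 ∨ m % 5 = 4 := by omega
    rcases h2 with h | h | h | h | h <;> rw [h]
    · rw [zpow_zero, one_mul]
      exact b5_of hTz T2.r_F (by decide) (by norm_num)
    · rw [zpow_one]
      exact b5_of hyz (by simpa only [mul_assoc] using T2.r_F1) (by decide) (by norm_num)
    · have h3 : W ^ (2 : ℤ) = W * W := by rw [zpow_ofNat, pow_two]
      rw [h3]
      exact b5_of hYz (by simpa only [mul_assoc] using T2.r_F2) (by decide) (by norm_num)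
    · have h3 : W ^ (3 : ℤ) = W * (W * W) := by rw [zpow_ofNat, pow_succ, pow_two, mul_assoc]
      rw [h3]
      exact b5_of hYz (by simpa only [mul_assoc] using T3.r_F3) (by decide) (by norm_num)
    · have h3 : W ^ (4 : ℤ) = W * (W * (W * W)) := by
        rw [zpow_ofNat, pow_succ, pow_succ, pow_two, mul_assoc, mul_assoc]
      rw [h3]
      exact b5_of htz (by simpa only [mul_assoc] using T3.r_F4) (by decide) (by norm_num)
  · rw [show (25 : ℕ) = 25 * 1 from rfl, hc 1 (by decide)]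
    exact b5_c (by simpa only [pow_one] using T3.r_c1) m
  · rw [show (50 : ℕ) = 25 * 2 from rfl, hc 2 (by decide)]
    exact b5_c (by simpa only [pow_succ, pow_zero, one_mul, mul_assoc] using T3.r_c2) m
  · rw [show (75 : ℕ) = 25 * 3 from rfl, hc 3 (by decide)]
    refine b5_c ?_ m
    have h3 : C₁ ^ 3 * F = C₁ * (C₁ * (C₁ * F)) := by simp only [pow_succ, pow_zero, one_mul, mul_assoc]
    rw [h3]
    exact T3.r_c3
  · rw [show (100 : ℕ) = 25 * 4 from rfl, hc 4 (by decide)]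
    refine b5_c ?_ m
    have h3 : C₁ ^ 4 * F = C₁ * (C₁ * (C₁ * (C₁ * F))) := by simp only [pow_succ, pow_zero, one_mul, mul_assoc]
    rw [h3]
    exact T3.r_c4

/-! ### the Sylow subgroup -/

theorem card_HN : Nat.card Spor.HN = 273030912000000 := Cfsg.Agent.KFacts.HN.Classes.card_HN

instance fin_HN : Finite Spor.HN := Nat.finite_of_card_ne_zero (by rw [card_HN]; norm_num)

theorem simple : IsSimpleGroup Spor.HN := Cfsg.Agent.S1701.result.1

theorem F_norm : F ∈ normalizer (ext.Q : Set Spor.HN) := Cfsg.Agent.H839.Rad.mem_normalizer_of F_Q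

theorem Fz_Q (s : ℤ) : ∀ q ∈ ext.Q, F ^ s * q * (F ^ s)⁻¹ ∈ ext.Q := fun q hq =>
  (mem_normalizer_iff.1 (zpow_mem F_norm s) q).1 hq

/-- `Q⟨F⟩` -/
def P : Subgroup Spor.HN where
  carrier := {x | ∃ q ∈ ext.Q, ∃ s : ℤ, x = q * F ^ s}
  mul_mem' := by
    rintro _ _ ⟨q, hq, s, rfl⟩ ⟨q', hq', s', rfl⟩
    refine ⟨q * (F ^ s * q' * (F ^ s)⁻¹), mul_mem hq (Fz_Q s q' hq'), s + s', ?_⟩
    rw [zpow_add]
    group
  one_mem' := ⟨1, one_mem _, 0, by simp⟩
  inv_mem' := by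
    rintro _ ⟨q, hq, s, rfl⟩
    refine ⟨F ^ (-s) * q⁻¹ * (F ^ (-s))⁻¹, Fz_Q (-s) _ (inv_mem hq), -s, ?_⟩
    group

theorem Q_le_P : ext.Q ≤ P := fun q hq => ⟨q, hq, 0, by simp⟩
theorem F_mem_P : F ∈ P := ⟨1, one_mem _, 1, by simp⟩

theorem isPGroup_P : IsPGroup 5 ↥P := by
  have : Fact (Nat.Prime 5) := ⟨by norm_num⟩
  have h1 : IsPGroup 5 ↥(zpowers F) := by
    rintro ⟨_, ⟨i, rfl⟩⟩
    refine ⟨1, Subtype.ext ?_⟩
    change (F ^ i) ^ (5 ^ 1) = 1
    rw [pow_one, ← zpow_natCast, ← zpow_mul, mul_comm, zpow_mul, zpow_natCast, F5, one_zpow]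
  have h2 : IsPGroup 5 ↥(zpowers F ⊔ ext.Q) :=
    h1.to_sup_of_normal_right' (ext.isPGroup (by decide)) (zpowers_le.2 F_norm)
  refine h2.to_le ?_
  rintro x ⟨q, hq, s, rfl⟩
  exact mul_mem (mem_sup_right hq) (zpow_mem (mem_sup_left (mem_zpowers F)) s)

theorem F_not : F ∉ ext.Q := by
  intro h
  have h1 : F * A * F⁻¹ * A⁻¹ ∈ zpowers W := ext.commutator_mem F h A ext.a_mem
  rw [e_fa1, mul_inv_cancel_right] at h1
  obtain ⟨n, hn⟩ := mem_zpowers_iff.1 h1
  have h2 : nf W A B C₁ D 0 0 4 4 1 = nf W A B C₁ D 1 0 0 0 n := by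
    have h3 : nf W A B C₁ D 0 0 4 4 1 = W ^ n * A := by rw [hn]; group
    rw [h3, ((show Commute W A from ext.wa).zpow_left n).eq]
    simp [nf]
  have h3 : nf W A B C₁ D 0 0 4 4 1 * nf W A B C₁ D 0 1 0 0 0 = nf W A B C₁ D 0 1 0 0 0 * nf W A B C₁ D 0 0 4 4 1 :=
    ext.comm_iff.2 (by norm_num)
  rw [h2] at h3
  have h4 := ext.comm_iff.1 h3
  norm_num at h4

theorem index_P : ¬ 5 ∣ P.index := by
  have : Fact (Nat.Prime 5) := ⟨by norm_num⟩
  have h1 : 5 ^ 5 ∣ Nat.card ↥ext.Q := ext.pow_dvd_card (by norm_num) (by decide)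
  obtain ⟨n, hn⟩ := IsPGroup.iff_card.1 isPGroup_P
  have h2 : Nat.card ↥ext.Q < Nat.card ↥P := by
    have h3 : ext.Q < P := lt_of_le_of_ne Q_le_P fun h => F_not (h ▸ F_mem_P)
    exact Set.ncard_lt_ncard h3 (Set.toFinite _)
  have h3 : 5 ^ 5 < 5 ^ n := by
    rw [← hn]
    exact (Nat.le_of_dvd Nat.card_pos h1).trans_lt h2
  have h4 : 5 < n := (Nat.pow_lt_pow_iff_right (by norm_num)).1 h3
  rintro ⟨t, ht⟩
  have h5 := P.card_mul_index
  rw [hn, ht, card_HN] at h5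
  obtain ⟨r, rfl⟩ := Nat.exists_eq_add_of_le h4
  have h6 : (5 : ℕ) ^ 7 ∣ 273030912000000 := ⟨5 ^ r * t, by rw [← h5]; ring⟩
  norm_num at h6

theorem pow_form {q : Spor.HN} (hq : q ∈ ext.Q) (s : ℤ) (n : ℕ) : ∃ q' ∈ ext.Q, (q * F ^ s) ^ n = q' * F ^ (s * n) := by
  induction n with
  | zero => exact ⟨1, one_mem _, by simp⟩
  | succ n ih =>
    obtain ⟨q', hq', h⟩ := ih
    refine ⟨q' * (F ^ (s * n) * q * (F ^ (s * n))⁻¹), mul_mem hq' (Fz_Q _ q hq), ?_⟩
    rw [pow_succ, h]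
    push_cast
    rw [mul_add, mul_one, zpow_add]
    group

theorem all_five (x : Spor.HN) (hx : orderOf x = 5) : NS (MulAut.conj x) := by
  have : Fact (Nat.Prime 5) := ⟨by norm_num⟩
  have hx5 : x ^ 5 = 1 := by rw [← hx]; exact pow_orderOf_eq_one x
  obtain ⟨g, hg⟩ := Cfsg.Agent.H478.RadHeis.exists_conj_mem isPGroup_P index_P hx5
  have hgx5 : (g * x * g⁻¹) ^ 5 = 1 := by rw [conj_pow, hx5, mul_one, mul_inv_cancel]
  have hgx1 : g * x * g⁻¹ ≠ 1 := by
    intro h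
    rw [conj_eq_one_iff] at h
    rw [h, orderOf_one] at hx
    omega
  apply ns_conj g
  suffices h : B5 (g * x * g⁻¹) from h hgx5
  obtain ⟨q, hq, s, hs⟩ := hg
  rw [hs] at hgx1 ⊢
  by_cases h5 : (5 : ℤ) ∣ s
  · have h1 : F ^ s = 1 := by rw [zpow_eq F5 (i := s) (j := 0) (by simpa using h5), zpow_zero]
    rw [h1, mul_one] at hgx1 ⊢
    obtain ⟨i, j, u, l, m, rfl⟩ := hq
    obtain ⟨v, hv, he⟩ := exists_code i j u l m
    rw [he] at hgx1 ⊢
    by_cases h0 : v = 0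
    · subst h0
      have h2 : nv 0 m = W ^ m := by simp [nv, nf, d0e, d1e, d2e, d3e]
      rw [h2] at hgx1 ⊢
      have h3 : ¬ (5 : ℤ) ∣ m := fun h => hgx1 (by rw [zpow_eq e_w5 (i := m) (j := 0) (by simpa using h), zpow_zero])
      obtain ⟨t, ht⟩ : ∃ t : ℕ, (5 : ℤ) ∣ m * t - 1 := by
        have h4 : m % 5 = 1 ∨ m % 5 = 2 ∨ m % 5 = 3 ∨ m % 5 = 4 := by omega
        rcases h4 with h | h | h | h
        · exact ⟨1, by push_cast; omega⟩
        · exact ⟨3, by push_cast; omega⟩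
        · exact ⟨2, by push_cast; omega⟩
        · exact ⟨4, by push_cast; omega⟩
      apply B5.of_pow t
      rw [← zpow_natCast, ← zpow_mul, zpow_eq e_w5 (j := 1) ht, zpow_one]
      exact goodW
    · exact goodQ v hv h0 m
  · obtain ⟨t, ht⟩ : ∃ t : ℕ, (5 : ℤ) ∣ s * t - 1 := by
      have h4 : s % 5 = 1 ∨ s % 5 = 2 ∨ s % 5 = 3 ∨ s % 5 = 4 := by omega
      rcases h4 with h | h | h | h
      · exact ⟨1, by push_cast; omega⟩
      · exact ⟨3, by push_cast; omega⟩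
      · exact ⟨2, by push_cast; omega⟩
      · exact ⟨4, by push_cast; omega⟩
    apply B5.of_pow t
    obtain ⟨q', hq', he⟩ := pow_form hq s t
    rw [he, zpow_eq F5 (i := s * t) (j := 1) ht, zpow_one]
    obtain ⟨i, j, u, l, m, rfl⟩ := hq'
    obtain ⟨v, hv, he⟩ := exists_code i j u l m
    rw [he]
    exact goodF v hv m

/-! ### the other primes -/

theorem all_seven : ∀ z : Spor.HN, orderOf z = 7 → NS (MulAut.conj z) :=
  all_of_word (by norm_num) (by decide) (by rw [card_HN]; norm_num) T4.r_g7 hz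
    (by simpa only [mul_assoc] using T4.r_h7) (by decide) (by norm_num)

theorem all_eleven : ∀ z : Spor.HN, orderOf z = 11 → NS (MulAut.conj z) :=
  all_of_word (by norm_num) (by decide) (by rw [card_HN]; norm_num) T4.r_g11 hz
    (by simpa only [mul_assoc] using T4.r_h11) (by decide) (by norm_num)

theorem all_nineteen : ∀ z : Spor.HN, orderOf z = 19 → NS (MulAut.conj z) :=
  all_of_word' (by norm_num) (by decide) (by rw [card_HN]; norm_num)
    (by simpa only [mul_assoc] using T4.r_h11) hz T4.r_g11 (by decide) (by norm_num)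

theorem prime_cases {p : ℕ} (hp : p.Prime) (h5 : 5 ≤ p) (hd : p ∣ 273030912000000) :
    p = 5 ∨ p = 7 ∨ p = 11 ∨ p = 19 := by
  have h1 : (273030912000000 : ℕ) = 2 ^ 14 * (3 ^ 6 * (5 ^ 6 * (7 * (11 * 19)))) := by norm_num
  rw [h1] at hd
  simp only [hp.dvd_mul] at hd
  rcases hd with h | h | h | h | h | h
  · have := (Nat.prime_dvd_prime_iff_eq hp (by norm_num)).1 (hp.dvd_of_dvd_pow h); omega
  · have := (Nat.prime_dvd_prime_iff_eq hp (by norm_num)).1 (hp.dvd_of_dvd_pow h); omega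
  · have := (Nat.prime_dvd_prime_iff_eq hp (by norm_num)).1 (hp.dvd_of_dvd_pow h); omega
  · have := (Nat.prime_dvd_prime_iff_eq hp (by norm_num)).1 h; omega
  · have := (Nat.prime_dvd_prime_iff_eq hp (by norm_num)).1 h; omega
  · have := (Nat.prime_dvd_prime_iff_eq hp (by norm_num)).1 h; omega

theorem all {p : ℕ} (hp : p.Prime) (h5 : 5 ≤ p) (x : Spor.HN) (hx : orderOf x = p) : NS (MulAut.conj x) := by
  have h1 : p ∣ 273030912000000 := by rw [← card_HN, ← hx]; exact _root_.orderOf_dvd_natCard x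
  rcases prime_cases hp h5 h1 with rfl | rfl | rfl | rfl
  · exact all_five x hx
  · exact all_seven x hx
  · exact all_eleven x hx
  · exact all_nineteen x hx

/-- **Row `HN`** -/
theorem irow_HN {K : Type*} [Group K] (h : Cfsg.Spor.IsoHN K) {p : ℕ} (hp : p.Prime) (h5 : 5 ≤ p) : IRow p K := by
  obtain ⟨e⟩ := h
  exact IRow.congr e (irow_of (hp.odd_of_ne_two (by omega)) center_HN
    (Cfsg.Agent.H256.OddInner.hn ⟨MulEquiv.refl _⟩) (all hp h5))

end Cfsg.Agent.H981.InvHN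
end

private theorem dce_828e07bd3d37 : _root_.True := by
  try have : _root_.True := by simp only [_root_.Cfsg.Agent.H981.InvHN.en.eq_1]
  try have : _root_.True := by simp only [_root_.Cfsg.Agent.H981.InvHN.nv.eq_1]
  exact _root_.True.intro
end

-- part: H793/Cyc/FiveHN
section
set_option linter.all false
open scoped Cfsg.Agent.FastGrp

-- part: H793/Cyc/ExtMove
section
/-!
# Points moved by the centre of an extraspecial group `p^{1+4}` (helper793, S3507, row `HN`)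

`cube_dvd` : `p³` divides the number of points moved by `w` if `Ext p w a b c d`.
-/

set_option autoImplicit false

namespace Cfsg.Agent.H793.Cyc.ExtMove

open Subgroup MulAction

universe u v

/-- a subgroup which meets the centre of a group `p^{1+4}` trivially has index at least `p³` -/
theorem index_dvd {Q : Type u} [Group Q] [Finite Q] {p : ℕ} (hp : p.Prime) (hQp : IsPGroup p Q) {w : Q}
    (hQ : p ^ 5 ≤ Nat.card Q) (hw : orderOf w = p) (hwc : ∀ x : Q, x * w = w * x)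
    (hc : ∀ x y : Q, x * y * x⁻¹ * y⁻¹ ∈ zpowers w) (hcen : ∀ x : Q, (∀ y, x * y = y * x) → x ∈ zpowers w)
    {S : Subgroup Q} (hS : ∀ x ∈ S, x ∈ zpowers w → x = 1) : p ^ 3 ∣ S.index := by
  have : Fact p.Prime := ⟨hp⟩
  obtain ⟨n, hn⟩ := IsPGroup.iff_card.1 hQp
  have hcz : ∀ z ∈ zpowers w, ∀ x : Q, x * z = z * x := by
    rintro _ ⟨k, rfl⟩ x
    exact ((show Commute x w from hwc x).zpow_right k).eq
  have hidx : ∀ R : Subgroup Q, ∃ k, R.index = p ^ k := by
    intro R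
    have h1 : R.index ∣ p ^ n := by rw [← hn]; exact R.index_dvd_card
    obtain ⟨k, -, hk⟩ := (Nat.dvd_prime_pow hp).1 h1
    exact ⟨k, hk⟩
  obtain ⟨k, hk⟩ := hidx S
  rw [hk]
  apply pow_dvd_pow
  by_contra hcon
  have hk2 : k ≤ 2 := by omega
  -- `S` is abelian
  have hSab : ∀ x ∈ S, ∀ y ∈ S, x * y = y * x := by
    intro x hx y hy
    have h1 := hS _ (mul_mem (mul_mem (mul_mem hx hy) (inv_mem hx)) (inv_mem hy)) (hc x y)
    rw [mul_inv_eq_one, mul_inv_eq_iff_eq_mul] at h1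
    exact h1
  -- `A = S ⟨w⟩`
  let A : Subgroup Q :=
    { carrier := {x | ∃ s ∈ S, ∃ z ∈ zpowers w, x = s * z}
      mul_mem' := by
        rintro _ _ ⟨s, hs, z, hz, rfl⟩ ⟨s', hs', z', hz', rfl⟩
        refine ⟨s * s', mul_mem hs hs', z * z', mul_mem hz hz', ?_⟩
        rw [mul_assoc, ← mul_assoc z, ← hcz z hz s']
        simp only [mul_assoc]
      one_mem' := ⟨1, one_mem _, 1, one_mem _, by rw [mul_one]⟩
      inv_mem' := by
        rintro _ ⟨s, hs, z, hz, rfl⟩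
        refine ⟨s⁻¹, inv_mem hs, z⁻¹, inv_mem hz, ?_⟩
        rw [mul_inv_rev, ← hcz z⁻¹ (inv_mem hz)] }
  have hSA : S ≤ A := fun s hs => ⟨s, hs, 1, one_mem _, by rw [mul_one]⟩
  have hAab : ∀ x ∈ S, ∀ y ∈ A, x * y = y * x := by
    rintro x hx _ ⟨s, hs, z, hz, rfl⟩
    rw [← mul_assoc, hSab x hx s hs, mul_assoc, hcz z hz, mul_assoc]
  have hcardA : Nat.card S * p ≤ Nat.card A := by
    have h1 : Nat.card S * p = Nat.card (↥S × ↥(zpowers w)) := by rw [Nat.card_prod, Nat.card_zpowers, hw]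
    rw [h1]
    apply Nat.card_le_card_of_injective (fun t : ↥S × ↥(zpowers w) => (⟨t.1 * t.2, t.1, t.1.2, t.2, t.2.2, rfl⟩ : A))
    rintro ⟨s, z⟩ ⟨s', z'⟩ h
    have h2 : (s : Q) * z = s' * z' := congrArg Subtype.val h
    have h3 : (s' : Q)⁻¹ * s = z' * (z : Q)⁻¹ := by
      rw [inv_mul_eq_iff_eq_mul, ← mul_assoc, eq_mul_inv_iff_mul_eq, h2]
    have h4 := hS _ (mul_mem (inv_mem s'.2) s.2) (h3 ▸ mul_mem z'.2 (inv_mem z.2))
    have h5 : (s : Q) = s' := (inv_mul_eq_one.1 h4).symm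
    rw [h5] at h2
    exact Prod.ext (Subtype.ext h5) (Subtype.ext (mul_left_cancel h2))
  have hSpos : 0 < Nat.card S := Nat.card_pos
  have hAi : A.index ≤ p := by
    have h1 := S.card_mul_index
    have h2 := A.card_mul_index
    have h3 : Nat.card S * (p * A.index) ≤ Nat.card S * p ^ 2 := by
      calc Nat.card S * (p * A.index) = Nat.card S * p * A.index := by ring
        _ ≤ Nat.card A * A.index := Nat.mul_le_mul_right _ hcardA
        _ = Nat.card S * S.index := by rw [h1, h2]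
        _ ≤ Nat.card S * p ^ 2 := Nat.mul_le_mul_left _ (by rw [hk]; exact Nat.pow_le_pow_right hp.pos hk2)
    have h4 := Nat.le_of_mul_le_mul_left h3 hSpos
    rw [pow_two] at h4
    exact Nat.le_of_mul_le_mul_left h4 hp.pos
  -- the centralizer of `x` in `S` is large
  have hone : ∃ x : Q, ∀ s ∈ S, s * x = x * s → s = 1 := by
    by_cases hA : A = ⊤
    · refine ⟨1, fun s hs _ => hS s hs (hcen s fun y => ?_)⟩
      exact hAab s hs y (by rw [hA]; exact mem_top y)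
    · obtain ⟨x, hx⟩ : ∃ x, x ∉ A := by
        by_contra h
        push Not at h
        exact hA (eq_top_iff.2 fun y _ => h y)
      have hB : A ⊔ zpowers x = ⊤ := by
        obtain ⟨i, hi⟩ := hidx A
        obtain ⟨j, hj⟩ := hidx (A ⊔ zpowers x)
        have h1 : (A ⊔ zpowers x).index < A.index := by
          apply index_strictAnti
          refine lt_of_le_of_ne le_sup_left fun h => hx ?_
          rw [h]
          exact mem_sup_right (mem_zpowers x)
        have h2 : i ≤ 1 := by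
          by_contra h
          have h3 := Nat.pow_lt_pow_right hp.one_lt (show 1 < i by omega)
          rw [pow_one, ← hi] at h3
          omega
        have h3 : j < i := by
          rw [hi, hj] at h1
          exact (Nat.pow_lt_pow_iff_right hp.one_lt).1 h1
        have h4 : j = 0 := by omega
        rw [h4, pow_zero] at hj
        exact index_eq_one.1 hj
      refine ⟨x, fun s hs hsx => hS s hs (hcen s ?_)⟩
      have h1 : A ⊔ zpowers x ≤ centralizer ({s} : Set Q) := by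
        rw [sup_le_iff, zpowers_le]
        refine ⟨fun y hy => mem_centralizer_singleton_iff.2 (hAab s hs y hy).symm, mem_centralizer_singleton_iff.2 hsx.symm⟩
      rw [hB] at h1
      exact fun y => (mem_centralizer_singleton_iff.1 (h1 (mem_top y))).symm
  obtain ⟨x, hx⟩ := hone
  have hle : Nat.card S ≤ p := by
    rw [← hw, ← Nat.card_zpowers]
    apply Nat.card_le_card_of_injective (fun s : S => (⟨(s : Q) * x * (s : Q)⁻¹ * x⁻¹, hc s x⟩ : zpowers w))
    intro s t h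
    have h2 : (s : Q) * x * (s : Q)⁻¹ * x⁻¹ = (t : Q) * x * (t : Q)⁻¹ * x⁻¹ := congrArg Subtype.val h
    have h3 := mul_right_cancel h2
    have h4 := hx ((t : Q)⁻¹ * s) (mul_mem (inv_mem t.2) s.2) (by
      rw [mul_inv_eq_iff_eq_mul] at h3
      calc (t : Q)⁻¹ * s * x = (t : Q)⁻¹ * (s * x) := by rw [mul_assoc]
        _ = (t : Q)⁻¹ * (t * x * (t : Q)⁻¹ * s) := by rw [h3]
        _ = x * ((t : Q)⁻¹ * s) := by group)
    exact Subtype.ext (inv_mul_eq_one.1 h4).symm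
  have h1 := S.card_mul_index
  have h2 : p ^ 5 ≤ p * p ^ 2 := by
    calc p ^ 5 ≤ Nat.card Q := hQ
      _ = Nat.card S * S.index := h1.symm
      _ ≤ p * p ^ 2 := Nat.mul_le_mul hle (by rw [hk]; exact Nat.pow_le_pow_right hp.pos hk2)
  have h3 : p * p ^ 2 = p ^ 3 := by ring
  rw [h3] at h2
  have h4 := (Nat.pow_le_pow_iff_right hp.one_lt).1 h2
  omega

/-- divisibility of the cardinality of a set with an action -/
theorem dvd_card {K : Type u} [Group K] [Finite K] {X : Type v} [Finite X] [MulAction K X] {n : ℕ}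
    (h : ∀ x : X, n ∣ (stabilizer K x).index) : n ∣ Nat.card X := by
  classical
  have := Fintype.ofFinite (orbitRel.Quotient K X)
  rw [Nat.card_congr (selfEquivSigmaOrbits' K X), Nat.card_sigma]
  refine Finset.dvd_sum fun q _ => ?_
  obtain ⟨x, rfl⟩ := Quotient.exists_rep q
  have h1 : (orbitRel.Quotient.orbit (⟦x⟧ : orbitRel.Quotient K X)) = orbit K x := rfl
  rw [h1, Nat.card_congr (orbitEquivQuotientStabilizer K x)]
  exact h x

theorem cube_dvd {K : Type u} [Group K] [Finite K] {Ω : Type v} [Finite Ω] [MulAction K Ω] {p : ℕ} {w a b c d : K}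
    (E : H839.Rad.Ext p w a b c d) (hp : p.Prime) (h2 : Odd p) : p ^ 3 ∣ Nat.card {ω : Ω // w • ω ≠ ω} := by
  have : Fact p.Prime := ⟨hp⟩
  let X : SubMulAction ↥E.Q Ω :=
    { carrier := {ω | w • ω ≠ ω}
      smul_mem' := by
        rintro ⟨x, hx⟩ ω hω h
        apply hω
        change w • x • ω = x • ω at h
        have h1 := E.comm_w x hx
        rw [← mul_smul, ← h1, mul_smul] at h
        exact smul_left_cancel x h }
  have h0 : Nat.card {ω : Ω // w • ω ≠ ω} = Nat.card X := rfl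
  rw [h0]
  apply dvd_card (K := ↥E.Q)
  rintro ⟨ω, hω⟩
  have hmem : ∀ x : ↥E.Q, x ∈ zpowers (⟨w, E.w_mem⟩ : ↥E.Q) ↔ (x : K) ∈ zpowers w := by
    intro x
    rw [mem_zpowers_iff, mem_zpowers_iff]
    refine exists_congr fun k => ?_
    rw [Subtype.ext_iff]
    rfl
  refine index_dvd hp (E.isPGroup h2) (w := ⟨w, E.w_mem⟩) E.le_card (by rw [Subgroup.orderOf_mk, E.hw])
    (fun x => Subtype.ext (E.comm_w x x.2)) (fun x y => ?_) (fun x hx => ?_) (fun x hx hxw => ?_)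
  · rw [hmem]
    exact E.commutator_mem x x.2 y y.2
  · rw [hmem]
    exact E.center x.2 fun y hy => congrArg Subtype.val (hx ⟨y, hy⟩)
  · rw [hmem] at hxw
    by_contra hx1
    apply hω
    have hx' : (x : K) • ω = ω := congrArg Subtype.val (mem_stabilizer_iff.1 hx)
    have h3 : (x : K) ≠ 1 := fun h => hx1 (Subtype.ext h)
    have hcw : Nat.card (zpowers w) = p := by rw [Nat.card_zpowers, E.hw]
    have h4 : zpowers (x : K) = zpowers w := by
      apply Subgroup.eq_of_le_of_card_ge (zpowers_le.2 hxw)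
      rw [hcw]
      have h5 : orderOf (x : K) ∣ p := ((zpowers w).orderOf_dvd_natCard hxw).trans (dvd_of_eq hcw)
      rcases (Nat.dvd_prime hp).1 h5 with h6 | h6
      · exact absurd (orderOf_eq_one_iff.1 h6) h3
      · rw [Nat.card_zpowers, h6]
    have h5 : w ∈ zpowers (x : K) := by rw [h4]; exact mem_zpowers w
    have h6 : zpowers (x : K) ≤ stabilizer K ω := zpowers_le.2 (mem_stabilizer_iff.2 hx')
    exact mem_stabilizer_iff.1 (h6 h5)

end Cfsg.Agent.H793.Cyc.ExtMove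
end

-- part: H793/Cyc/FiveHN
section
/-!
# Elements of order 25 of the Harada–Norton group (helper793, S3507)

* `pow_five_mem` : the fifth powers of the elements of the Sylow 5-subgroup `Q⟨F⟩` are in `⟨W⟩ = Z(5^{1+4})`;
* `dvd_moved` : `125` divides the number of points moved by the fifth power of an element of order 25.
-/

set_option autoImplicit false

namespace Cfsg.Agent.H793.Cyc.FiveHN

open Subgroup Cfsg Cfsg.Agent.H839.Rad.Ext Cfsg.Agent.H981.InvHN
open Cfsg.Agent.H839.Rad.HN (W A B C₁ D F ext e_fa1 e_fb1 e_fa2 e_fb2 FW F_Q W_ne e_w5)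

universe u v

theorem stepF (i j u l : ℕ) (m : ℤ) : ∃ m' : ℤ, F * nf W A B C₁ D i j u l m * F⁻¹ =
    nf W A B C₁ D (4 * u + 4 * l : ℕ) (j + u : ℕ) (4 * i + 4 * u + 4 * l : ℕ) (4 * i + 4 * j + 4 * u + 4 * l : ℕ) m' := by
  obtain ⟨m', h⟩ := conj_nf FW e_fa1 e_fb1 e_fa2 e_fb2 i j u l m
  refine ⟨m', ?_⟩
  rw [h]
  exact nf_eq (by push_cast; ring) (by push_cast; ring) (by push_cast; ring) (by push_cast; ring)

theorem five_form (q : Spor.HN) : (q * F) ^ 5 = q * (F * q * F⁻¹) * (F * (F * q * F⁻¹) * F⁻¹) *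
    (F * (F * (F * q * F⁻¹) * F⁻¹) * F⁻¹) * (F * (F * (F * (F * q * F⁻¹) * F⁻¹) * F⁻¹) * F⁻¹) := by
  have h : (q * F) ^ 5 = q * (F * q * F⁻¹) * (F * (F * q * F⁻¹) * F⁻¹) *
    (F * (F * (F * q * F⁻¹) * F⁻¹) * F⁻¹) * (F * (F * (F * (F * q * F⁻¹) * F⁻¹) * F⁻¹) * F⁻¹) * F ^ 5 := by
    simp only [pow_succ, pow_zero, one_mul]
    group
  rw [h, F5, mul_one]

theorem norm_mem {q : Spor.HN} (hq : q ∈ ext.Q) : (q * F) ^ 5 ∈ zpowers W := by
  obtain ⟨i, j, u, l, m, rfl⟩ := hq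
  obtain ⟨v, hv, he⟩ := exists_code i j u l m
  rw [he]
  unfold nv
  obtain ⟨m1, h1⟩ := stepF (d0 v) (d1 v) (d2 v) (d3 v) m
  obtain ⟨m2, h2⟩ := stepF _ _ _ _ m1
  rw [← h1] at h2
  obtain ⟨m3, h3⟩ := stepF _ _ _ _ m2
  rw [← h2] at h3
  obtain ⟨m4, h4⟩ := stepF _ _ _ _ m3
  rw [← h3] at h4
  rw [five_form, h4, h3, h2, h1, ext.nf_mul, ext.nf_mul, ext.nf_mul, ext.nf_mul]
  generalize d0 v = a at *
  generalize d1 v = b at *
  generalize d2 v = c at *
  generalize d3 v = d at *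
  apply ext.nf_mem_zpowers
  · push_cast; omega
  · push_cast; omega
  · push_cast; omega
  · push_cast; omega

theorem pow_five_mem {x : Spor.HN} (hx : x ∈ P) : x ^ 5 ∈ zpowers W := by
  have : Fact (Nat.Prime 5) := ⟨by norm_num⟩
  obtain ⟨k, hk⟩ := isPGroup_P ⟨x, hx⟩
  have hk' : x ^ 5 ^ k = 1 := congrArg Subtype.val hk
  obtain ⟨q, hq, s, rfl⟩ := hx
  by_cases h5 : (5 : ℤ) ∣ s
  · have h1 : F ^ s = 1 := by rw [zpow_eq F5 (i := s) (j := 0) (by simpa using h5), zpow_zero]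
    rw [h1, mul_one, ext.pow_eq_one (by decide) q hq]
    exact one_mem _
  · obtain ⟨t, ht, htc⟩ : ∃ t : ℕ, (5 : ℤ) ∣ s * t - 1 ∧ Nat.Coprime t 5 := by
      have h4 : s % 5 = 1 ∨ s % 5 = 2 ∨ s % 5 = 3 ∨ s % 5 = 4 := by omega
      rcases h4 with h | h | h | h
      · exact ⟨1, by push_cast; omega, by norm_num⟩
      · exact ⟨3, by push_cast; omega, by norm_num⟩
      · exact ⟨2, by push_cast; omega, by norm_num⟩
      · exact ⟨4, by push_cast; omega, by norm_num⟩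
    obtain ⟨q', hq', he⟩ := pow_form hq s t
    rw [zpow_eq F5 (i := s * t) (j := 1) ht, zpow_one] at he
    have h2 := norm_mem hq'
    rw [← he] at h2
    set x := q * F ^ s with hx
    have hco : Nat.Coprime t (orderOf x) := by
      obtain ⟨n, -, hn⟩ := (Nat.dvd_prime_pow (by norm_num : Nat.Prime 5)).1 (orderOf_dvd_of_pow_eq_one hk')
      rw [hn]
      exact Nat.Coprime.pow_right n htc
    obtain ⟨r, hr⟩ := exists_pow_eq_self_of_coprime hco
    have h3 : x ^ 5 = ((x ^ t) ^ 5) ^ r := by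
      rw [← pow_mul, mul_comm 5 r, pow_mul, hr]
    rw [h3]
    exact pow_mem h2 r

theorem exists_conj_W {x : Spor.HN} (hx : orderOf x = 25) : ∃ g : Spor.HN, zpowers (g * x ^ 5 * g⁻¹) = zpowers W := by
  have : Fact (Nat.Prime 5) := ⟨by norm_num⟩
  have h1 : IsPGroup 5 (zpowers x) := IsPGroup.of_card (n := 2) (by rw [Nat.card_zpowers, hx]; norm_num)
  obtain ⟨R, hR⟩ := h1.exists_le_sylow
  obtain ⟨g, hg⟩ := MulAction.exists_smul_eq Spor.HN R (isPGroup_P.toSylow index_P)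
  refine ⟨g, ?_⟩
  have h2 : (R : Subgroup Spor.HN).map (MulAut.conj g).toMonoidHom = P := by
    have := congrArg (fun S : Sylow 5 Spor.HN => (S : Subgroup Spor.HN)) hg
    exact this
  have h3 : g * x * g⁻¹ ∈ P := by
    rw [← h2]
    exact ⟨x, hR (mem_zpowers x), rfl⟩
  have h4 := pow_five_mem h3
  rw [conj_pow] at h4
  have h5 : orderOf (g * x ^ 5 * g⁻¹) = 5 := by
    have h6 : orderOf (g * x ^ 5 * g⁻¹) = orderOf (x ^ 5) := MulEquiv.orderOf_eq (MulAut.conj g) (x ^ 5)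
    rw [h6, orderOf_pow' _ (by norm_num), hx]
    norm_num
  apply Subgroup.eq_of_le_of_card_ge (zpowers_le.2 h4)
  rw [Nat.card_zpowers, Nat.card_zpowers, h5, ext.hw]

theorem dvd_moved {Ω : Type v} [Finite Ω] [MulAction Spor.HN Ω] {x : Spor.HN} (hx : orderOf x = 25) :
    125 ∣ Nat.card {ω : Ω // x ^ 5 • ω ≠ ω} := by
  obtain ⟨g, hg⟩ := exists_conj_W hx
  have h1 := ExtMove.cube_dvd (Ω := Ω) ext (by norm_num) (by decide)
  rw [show 5 ^ 3 = 125 by norm_num] at h1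
  have h2 : ∀ a b : Spor.HN, zpowers a = zpowers b → ∀ ω : Ω, a • ω = ω → b • ω = ω := by
    intro a b h ω ha
    have h3 : b ∈ zpowers a := by rw [h]; exact mem_zpowers b
    have h4 : zpowers a ≤ MulAction.stabilizer Spor.HN ω := zpowers_le.2 (MulAction.mem_stabilizer_iff.2 ha)
    exact MulAction.mem_stabilizer_iff.1 (h4 h3)
  have h3 : ∀ ω : Ω, x ^ 5 • ω = ω ↔ W • g • ω = g • ω := by
    intro ω
    have h4 : x ^ 5 • ω = ω ↔ (g * x ^ 5 * g⁻¹) • g • ω = g • ω := by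
      rw [mul_smul, inv_smul_smul, mul_smul, smul_left_cancel_iff]
    rw [h4]
    exact ⟨h2 _ _ hg _, h2 _ _ hg.symm _⟩
  have h4 : Nat.card {ω : Ω // x ^ 5 • ω ≠ ω} = Nat.card {ω : Ω // W • ω ≠ ω} := by
    refine Nat.card_congr
      { toFun := fun ω => ⟨g • ω.1, fun h => ω.2 ((h3 _).2 h)⟩
        invFun := fun ω => ⟨g⁻¹ • ω.1, fun h => ω.2 (by
          have := (h3 _).1 h
          rwa [smul_inv_smul] at this)⟩
        left_inv := fun ω => Subtype.ext (inv_smul_smul g ω.1)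
        right_inv := fun ω => Subtype.ext (smul_inv_smul g ω.1) }
  rw [h4]
  exact h1

end Cfsg.Agent.H793.Cyc.FiveHN
end
end
end
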